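import Cfsg.Agent.H517.OddM.PspReal
import Cfsg.Agent.H453.OddM.Asm
import Cfsg.Agent.H262.ElSympMiss
import Cfsg.Agent.H262.ElSympPSp
import Cfsg.Agent.H264.FKS.Final
import Cfsg.Agent.H264.FKS.Socle
import Cfsg.Agent.H278.ElAsm
import Cfsg.Agent.H884.CxMain
import Cfsg.Agent.S0818

/-!
# S4785 (TEAM ODDM): the row `PSp(2n, q)`, `n ≥ 3`, `q` odd (helper517)

* `hker_psp`     : the kernel of `Sp → PSp`
* `two_contra`   : the 2-parts of `|PSp(2n, q)|` and of `|Aut(PΩ^-(2n, q))|`, `n` even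
* `rowC_psp`     : no maximal subgroup of `PSp(2n, q)` is `Cov`
* `row_psp_of`   : the row, from the order table and the classification in `Type`.
-/

set_option autoImplicit false

namespace Cfsg.Agent.H517.OddM

open Cfsg Cfsg.Geo Cfsg.Agent.OrdDiv Cfsg.Agent.H436 Cfsg.Agent.H264.FKS Cfsg.Agent.H915.GN Cfsg.Agent.H264.GN
open Cfsg.Agent.H453.OddM (RealP Cov RowC RowN not_cov_of_prime)
open Cfsg.Agent.H876 (spToGL)
open scoped MatrixGroups

universe u

/-! ### Arithmetic -/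

theorem two_pow_dvd {p : ℕ} (hp : Odd p) (j : ℕ) : 2 ^ (j + 3) ∣ p ^ (2 * 2 ^ j) - 1 := by
  have hp1 : 1 ≤ p := hp.pos
  induction j with
  | zero =>
    rw [zero_add, pow_zero, mul_one]
    obtain ⟨k, rfl⟩ := hp
    have h1 : (2 * k + 1) ^ 2 - 1 = 4 * (k * (k + 1)) := by
      have : (2 * k + 1) ^ 2 = 4 * (k * (k + 1)) + 1 := by ring
      omega
    rw [h1]
    obtain ⟨c, hc⟩ := (Nat.even_mul_succ_self k).two_dvd
    exact ⟨c, by rw [hc]; ring⟩
  | succ j ih =>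
    have h1 : p ^ (2 * 2 ^ (j + 1)) - 1 = (p ^ (2 * 2 ^ j) + 1) * (p ^ (2 * 2 ^ j) - 1) := by
      have := Nat.sq_sub_sq (p ^ (2 * 2 ^ j)) 1
      rw [one_pow] at this
      rw [← this, ← pow_mul, pow_succ, mul_assoc]
    rw [h1, show j + 1 + 3 = (j + 3) + 1 by ring, pow_succ']
    refine Nat.mul_dvd_mul ?_ ih
    exact (hp.pow.add_one).two_dvd

theorem two_pow_dvd' {p f n : ℕ} (hp : Odd p) (he : n % 2 = 0) {j : ℕ} (hj : 2 ^ j ∣ f) :
    2 ^ (j + 3) ∣ (p ^ f) ^ n - 1 := by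
  obtain ⟨c, rfl⟩ := hj
  obtain ⟨m, rfl⟩ : ∃ m, n = 2 * m := ⟨n / 2, by omega⟩
  refine (two_pow_dvd hp j).trans ?_
  have h1 : (p ^ (2 ^ j * c)) ^ (2 * m) = (p ^ (2 * 2 ^ j)) ^ (c * m) := by
    rw [← pow_mul, ← pow_mul]
    congr 1
    ring
  rw [h1]
  exact Nat.sub_one_dvd_pow_sub_one _ _

/-- the comparison of the 2-parts -/
theorem two_contra {t a f X Q Q' D : ℕ} (hX : X ≠ 0) (hf : f ≠ 0) (h1 : 2 * t = Q * X * D)
    (hD : ∀ j, 2 ^ j ∣ f → 2 ^ (j + 3) ∣ D) (h2 : a = 2 * f * (Q' * X)) (hQ' : Odd Q')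
    (h : ∀ k, 2 ^ k ∣ t → 2 ^ k ∣ a) : False := by
  obtain ⟨x, X', hX', rfl⟩ := Nat.exists_eq_pow_mul_and_not_dvd hX 2 (by norm_num)
  obtain ⟨j, f', hf', rfl⟩ := Nat.exists_eq_pow_mul_and_not_dvd hf 2 (by norm_num)
  obtain ⟨d, rfl⟩ := hD j (Dvd.intro _ rfl)
  have h3 : 2 ^ (x + j + 2) ∣ t := by
    refine Nat.dvd_of_mul_dvd_mul_left (show 0 < 2 by norm_num) ?_
    rw [h1]
    exact ⟨Q * X' * d, by ring⟩
  have h4 := h _ h3
  rw [h2, show 2 * (2 ^ j * f') * (Q' * (2 ^ x * X')) = 2 ^ (x + j + 1) * (f' * Q' * X') by ring,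
    show x + j + 2 = (x + j + 1) + 1 by ring, pow_succ] at h4
  have h5 := Nat.dvd_of_mul_dvd_mul_left (by positivity) h4
  rcases Nat.prime_two.dvd_mul.1 h5 with h6 | h6
  · rcases Nat.prime_two.dvd_mul.1 h6 with h7 | h7
    · exact hf' h7
    · exact (Nat.not_even_iff_odd.2 hQ') (even_iff_two_dvd.2 h7)
  · exact hX' h6

theorem gcd_four {Q : ℕ} (h : Q % 4 = 1) : Nat.gcd 4 (Q + 1) = 2 := by
  have h1 : Nat.gcd 4 (Q + 1) ∣ 4 := Nat.gcd_dvd_left _ _
  have h2 : 2 ∣ Nat.gcd 4 (Q + 1) := Nat.dvd_gcd (by norm_num) (by omega)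
  have h3 : Nat.gcd 4 (Q + 1) ≠ 4 := fun h3 => by
    have h4 : 4 ∣ Q + 1 := h3 ▸ Nat.gcd_dvd_right 4 (Q + 1)
    omega
  have h5 : Nat.gcd 4 (Q + 1) ≤ 4 := Nat.le_of_dvd (by norm_num) h1
  obtain ⟨c, hc⟩ := h2
  interval_cases hg : Nat.gcd 4 (Q + 1) <;> omega

theorem prB_succ (q n : ℕ) (hn : 1 ≤ n) : prB q n = prB q (n - 1) * (q ^ (2 * n) - 1) := by
  obtain ⟨k, rfl⟩ : ∃ k, n = k + 1 := ⟨n - 1, by omega⟩
  rw [prB_eq, prB_eq, Finset.prod_range_succ, Nat.add_sub_cancel]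

/-! ### The kernel of `Sp → PSp` -/

theorem hker_psp {F : Type*} [Field F] {m : ℕ} (x : Matrix.symplecticGroup (Fin m) F) :
    QuotientGroup.mk' (Subgroup.center (Matrix.symplecticGroup (Fin m) F)) x = 1 ↔
      spToGL m F x ∈ scalars (Fin m ⊕ Fin m) F := by
  rw [show QuotientGroup.mk' (Subgroup.center (Matrix.symplecticGroup (Fin m) F)) x = 1 ↔
    x ∈ Subgroup.center (Matrix.symplecticGroup (Fin m) F) from QuotientGroup.eq_one_iff x]
  constructor
  · intro h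
    obtain ⟨a, ha⟩ := (LieClassical.SympCenter.mem_center_iff m x).1 h
    rcases isEmpty_or_nonempty (Fin m ⊕ Fin m) with hι | ⟨⟨i⟩⟩
    · have : spToGL m F x = 1 := Units.ext (by ext i; exact (hι.false i).elim)
      rw [this]
      exact Subgroup.one_mem _
    · have ha0 : a ≠ 0 := by
        rintro rfl
        rw [zero_smul] at ha
        have h3 : (0 : Matrix (Fin m ⊕ Fin m) (Fin m ⊕ Fin m) F) = 1 := by
          have h1 : x.1 * (x⁻¹).1 = 1 := congrArg Subtype.val (mul_inv_cancel x)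
          rw [ha, zero_mul] at h1
          exact h1
        have h4 := congrFun (congrFun h3 i) i
        rw [Matrix.zero_apply, Matrix.one_apply_eq] at h4
        exact zero_ne_one h4
      refine ⟨Units.mk0 a ha0, Units.ext ?_⟩
      ext i j
      have h5 := congrFun (congrFun ha i) j
      change (Matrix.scalar (Fin m ⊕ Fin m) a) i j = x.1 i j
      rw [h5, Matrix.scalar_apply, Matrix.smul_apply, Matrix.diagonal_apply, Matrix.one_apply]
      split_ifs <;> simp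
  · rintro ⟨u, hu⟩
    refine (LieClassical.SympCenter.mem_center_iff m x).2 ⟨(u : F), ?_⟩
    have h1 := congrArg Units.val hu
    ext i j
    have h5 := congrFun (congrFun h1 i) j
    change (Matrix.scalar (Fin m ⊕ Fin m) (u : F)) i j = x.1 i j at h5
    rw [← h5, Matrix.scalar_apply, Matrix.smul_apply, Matrix.diagonal_apply, Matrix.one_apply]
    split_ifs <;> simp

/-! ### The last socle: `PΩ^-(2n, q)`, `n` even -/

section

variable {T : Type u} [Group T] [Finite T] {R : Subgroup T} {p f n : ℕ}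

/-- `|Aut(PΩ^-(2n, q))|`, `q` odd, `n` even -/
theorem card_aut_ominus {S : Type u} [Group S] (hS : IsNamed (.ominus n (p ^ f)) S) (hp : p.Prime) (hp2 : p ≠ 2)
    (hf : 1 ≤ f) (he : n % 2 = 0) :
    Nat.card (MulAut S) = 2 * f * ((p ^ f) ^ (n * (n - 1)) * (((p ^ f) ^ n + 1) * prB (p ^ f) (n - 1))) := by
  have hcond := hS.cond.1
  have heq : Nat.gcd 4 ((p ^ f) ^ n + 1) * Nat.card S =
      (p ^ f) ^ (n * (n - 1)) * (((p ^ f) ^ n + 1) * prB (p ^ f) (n - 1)) := hS.eq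
  obtain ⟨F, _, _, a, b, hF, hab, ⟨e⟩⟩ := hS.real
  have := Fact.mk hp
  have h1 := S0818.result p f hf hF n hcond a b hab
  have hodd : Odd (p ^ f) := (hp.odd_of_ne_two hp2).pow
  obtain ⟨m, rfl⟩ : ∃ m, n = 2 * m := ⟨n / 2, by omega⟩
  obtain ⟨k, hk⟩ := hodd
  have h2 : 2 * m * (p ^ f - 1) / 2 = m * (2 * k) := by
    rw [hk, Nat.add_sub_cancel, mul_assoc, Nat.mul_div_cancel_left _ (by norm_num)]
  rw [if_neg hp2, if_pos (by rw [h2]; exact ⟨m * k, by ring⟩)] at h1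
  have h3 : Nat.card (MulAut S) = 4 * f * Nat.card S := by
    rw [Nat.card_congr (MulAut.congr e).toEquiv, h1, Nat.card_congr e.toEquiv]
  have h4 : (p ^ f) ^ (2 * m) % 4 = 1 := by
    have h5 := two_pow_dvd' (p := p) (f := f) (n := 2 * m) (hp.odd_of_ne_two hp2) (by omega) (j := 0) (one_dvd _)
    have h6 : 1 ≤ (p ^ f) ^ (2 * m) := Nat.one_le_pow _ _ (pow_pos hp.pos _)
    obtain ⟨c, hc⟩ := h5
    norm_num at hc
    omega
  rw [gcd_four h4] at heq
  rw [h3, ← heq]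
  ring

theorem not_ominus (hT : IsNamed (.psp n (p ^ f)) T) (hp : p.Prime) (hp2 : p ≠ 2) (hf : 1 ≤ f) (he : n % 2 = 0)
    (hc : Cov T R) (S : Subgroup R) [S.Normal] (hC : Subgroup.centralizer (S : Set R) = ⊥)
    (hS : IsNamed (.ominus n (p ^ f)) S) : False := by
  have hn : 2 ≤ n := hT.cond.1
  have hodd : Odd (p ^ f) := (hp.odd_of_ne_two hp2).pow
  have hq : 1 ≤ p ^ f := pow_pos hp.pos _
  have h1 : Nat.gcd 2 (p ^ f - 1) * Nat.card T = (p ^ f) ^ (n ^ 2) * prB (p ^ f) n := hT.eq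
  have h2 : Nat.gcd 2 (p ^ f - 1) = 2 := Nat.gcd_eq_left (by
    obtain ⟨k, hk⟩ := hodd
    exact ⟨k, by omega⟩)
  rw [h2, prB_succ _ _ (by omega)] at h1
  have h3 : (p ^ f) ^ (2 * n) - 1 = ((p ^ f) ^ n + 1) * ((p ^ f) ^ n - 1) := by
    have := Nat.sq_sub_sq ((p ^ f) ^ n) 1
    rw [one_pow] at this
    rw [← this, mul_comm 2 n, pow_mul (p ^ f) n 2]
  have h4 := card_aut_ominus hS hp hp2 hf he
  have hX : ((p ^ f) ^ n + 1) * prB (p ^ f) (n - 1) ≠ 0 := by
    intro h0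
    have h5 : 2 * Nat.card T = 0 := by
      have h6 : (p ^ f) ^ (n ^ 2) * (prB (p ^ f) (n - 1) * (((p ^ f) ^ n + 1) * ((p ^ f) ^ n - 1))) =
          (p ^ f) ^ (n ^ 2) * ((p ^ f) ^ n - 1) * (((p ^ f) ^ n + 1) * prB (p ^ f) (n - 1)) := by ring
      rw [h1, h3, h6, h0, mul_zero]
    have := Nat.card_pos (α := T)
    omega
  refine two_contra (t := Nat.card T) (a := Nat.card (MulAut S)) (f := f) (Q := (p ^ f) ^ (n ^ 2))
    (D := (p ^ f) ^ n - 1) hX (by omega) ?_ (fun j hj => two_pow_dvd' (hp.odd_of_ne_two hp2) he hj) h4 hodd.pow ?_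
  · rw [h1, h3]
    ring
  · intro k hk
    exact (hc.two_part.1 hk).trans (dvd_aut S hC)

end

/-! ### The row -/

/-- **No maximal subgroup of `PSp(2n, q)`, `q` odd, `n ≥ 3`, is `Cov`.** -/
theorem rowC_psp (tab : OrderTable.{0}) (hK : ∀ (X : Type) [Group X] [Finite X] [IsSimpleGroup X],
    Cfsg.IsKnownSimple' X) {F : Type} [Field F] [Fintype F] {p f n : ℕ} (hp : p.Prime) (hp2 : p ≠ 2) (hf : 1 ≤ f)
    (hF : Fintype.card F = p ^ f) (hn : 3 ≤ n) : RowC (PSp n F) := by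
  intro M hM hc
  have hfin : Finite (PSp n F) := Quotient.finite _
  have hchar : CharP F p := Cfsg.Agent.H364.OutLie.charP_of_card hp hf hF
  have h2 : (2 : F) ≠ 0 := by
    intro h0
    have h1 : p ∣ 2 := (CharP.cast_eq_zero_iff F p 2).1 (by exact_mod_cast h0)
    exact hp2 ((Nat.prime_dvd_prime_iff_eq hp Nat.prime_two).1 h1)
  have hp3 : 3 ≤ p := by have := hp.two_le; omega
  have hq3 : 3 ≤ Fintype.card F := by
    rw [hF]
    exact hp3.trans (Nat.le_self_pow (by omega) _)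
  have hpF : p ∣ Fintype.card F := by rw [hF]; exact dvd_pow_self p (by omega)
  have hT : IsNamed (.psp n (Fintype.card F)) (PSp n F) :=
    .mk' ⟨F, inferInstance, inferInstance, rfl, ⟨MulEquiv.refl _⟩⟩
      ⟨by omega, by omega, Fintype.isPrimePow_card_of_field⟩ (psp_eq (by omega))
  have hmiss : ¬ ∃ r : ℕ, r.Prime ∧ r ∣ Nat.card (PSp n F) ∧ ¬ r ∣ Nat.card M := by
    rintro ⟨r, hr, hd, hnd⟩
    exact not_cov_of_prime (realP_psp_of_dvd h2 (by omega) hr hd) hnd hc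
  rcases H262.El.psp_miss (m := n) (by omega) (by omega) (by omega) (by omega) hM.1 with h | ⟨P, hP, -⟩ | h
  · exact hmiss h
  · obtain ⟨S, hSn, hSs, hna, hC, ⟨e⟩⟩ := exists_socle
      (spToGL n F) H262.El.spToGL_injective _ (QuotientGroup.mk'_surjective _) hker_psp hP
    obtain ⟨g, hg⟩ := exists_named tab (hK S) fun h => hna ⟨⟨h⟩⟩
    refine H278.El.Asm.res_kill (p := p) (Q := False) hT trivial ?_ ?_ S hC hg e ?_ hmiss ?_ ?_
    · simp only [H278.El.AltNum.surv, List.mem_cons, Grp.psp.injEq, reduceCtorEq, or_false, false_or, List.not_mem_nil,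
        not_or]
      exact ⟨by omega, by omega, by omega, by omega⟩
    · intro g' hg'
      simp only [H278.El.SporNum.exc, List.mem_cons, Prod.mk.injEq, reduceCtorEq, and_false, or_false,
        List.not_mem_nil] at hg'
    · rw [Fintype.card_sum, Fintype.card_fin]
      exact (two_mul n).symm
    · intro hch
      rw [hF] at hT
      have hfull : Full (PSp n F) M := by
        intro r hr hd
        by_contra h1
        exact hmiss ⟨r, hr, hd, h1⟩
      obtain ⟨he, hg'⟩ := full_psp hT hp hf hn (by omega) (by omega) hM.1 hfull S hna hC hg hch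
      subst hg'
      exact not_ominus hT hp hp2 hf he hc S hC hg
    · intro s hs hsp hch
      rcases H884.Cx.cross_row hp hT trivial ⟨f, hF⟩ (by
        rw [Fintype.card_sum, Fintype.card_fin]; exact (two_mul n).symm) S hna hC hP.perfect e hs hsp hg hch with h | h
      · exact hmiss h
      · simp only [H884.Cx.excP, List.mem_cons, Prod.mk.injEq, Grp.psp.injEq, reduceCtorEq, and_false, or_false,
          false_or, List.not_mem_nil] at h
        omega
  · rcases h with ⟨-, he, -⟩ | ⟨h, -⟩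
    · rw [hF] at he
      exact (Nat.not_even_iff_odd.2 (hp.odd_of_ne_two hp2).pow) he
    · omega

/-- **S4785: the row `PSp(2n, q)`, `n ≥ 3`, `q` odd**, from the order table and the classification in `Type`. -/
theorem row_psp_of (tab : OrderTable.{0}) (hK : ∀ (X : Type) [Group X] [Finite X] [IsSimpleGroup X],
    Cfsg.IsKnownSimple' X) (n q : ℕ) (hn : 3 ≤ n) (h2 : ¬ 2 ∣ q) : RowN.{u} (.psp n q) := by
  intro T _ _ _ h
  obtain ⟨p, f, hp, hf, hpf⟩ := (isPrimePow_nat_iff _).1 h.cond.2.2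
  have hp2 : p ≠ 2 := by
    rintro rfl
    exact h2 (hpf ▸ dvd_pow_self 2 (by omega))
  obtain ⟨F, _, _, hF, ⟨e⟩⟩ := h.real
  have hfin : Finite (PSp n F) := Quotient.finite _
  exact (Cfsg.Agent.H453.OddM.Row.congr e.symm
    (rowC_psp tab hK hp hp2 hf (hF.trans hpf.symm) hn).row).row8

end Cfsg.Agent.H517.OddM
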